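import Mathlib
import Cfsg.Agent.Characters.Core

/-!
# The symmetric cube of an idempotent (helper42, for helper818, S4884)

* `isCharacter_idem` : an invariant idempotent matrix `Q` on the `G`-set `T` affords the character `∑ t, Q t (g • t)`;
* `sym3` : the symmetric cube of the range of a symmetric idempotent `E`, minus the range, minus the span of the cubes
  `e_x ^ 3` modulo the range.
-/

set_option autoImplicit false
set_option linter.unusedSectionVars false

namespace Cfsg.Agent.H42.BT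

open Cfsg Cfsg.Agent.Characters.Core
open scoped BigOperators

universe u v

section idem

variable {G : Type u} [Group G] {T : Type v} [Fintype T] [DecidableEq T] [MulAction G T]

/-- the permutation representation on functions -/
def prep (G : Type u) [Group G] (T : Type v) [MulAction G T] : Representation ℂ G (T → ℂ) where
  toFun g :=
    { toFun := fun f t => f (g⁻¹ • t)
      map_add' := fun _ _ => rfl
      map_smul' := fun _ _ => rfl }
  map_one' := by
    ext f t
    simp
  map_mul' g h := by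
    ext f t
    simp [mul_smul]

theorem prep_apply (g : G) (f : T → ℂ) (t : T) : prep G T g f t = f (g⁻¹ • t) := rfl

/-- **An invariant idempotent affords a character.** -/
theorem isCharacter_idem (Q : Matrix T T ℂ) (hQ : Q * Q = Q) (hQg : ∀ (g : G) (t t' : T), Q (g • t) (g • t') = Q t t') :
    IsCharacter G (fun g => ∑ t, Q t (g • t)) := by
  set q : (T → ℂ) →ₗ[ℂ] (T → ℂ) := Matrix.toLin' Q with hq
  have hqa : ∀ (f : T → ℂ) (t : T), q f t = ∑ s, Q t s * f s := fun f t => rfl
  have hqq : ∀ f, q (q f) = q f := by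
    intro f
    have : (q ∘ₗ q) f = q f := by rw [hq, ← Matrix.toLin'_mul, hQ]
    exact this
  have hcomm : ∀ (g : G) (f : T → ℂ), q (prep G T g f) = prep G T g (q f) := by
    intro g f
    funext t
    rw [prep_apply, hqa, hqa]
    refine Fintype.sum_equiv (MulAction.toPerm g⁻¹) _ _ fun s => ?_
    rw [prep_apply]
    show Q t s * f (g⁻¹ • s) = Q (g⁻¹ • t) (g⁻¹ • s) * f (g⁻¹ • s)
    rw [hQg]
  set W : Submodule ℂ (T → ℂ) := LinearMap.range q with hW
  have hWm : ∀ f ∈ W, q f = f := by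
    rintro _ ⟨f, rfl⟩
    exact hqq f
  have hst : ∀ (g : G), ∀ f ∈ W, prep G T g f ∈ W := by
    intro g f hf
    refine ⟨prep G T g f, ?_⟩
    rw [hcomm, hWm f hf]
  let ρ : Representation ℂ G W :=
    { toFun := fun g => (prep G T g).restrict (hst g)
      map_one' := by
        ext f
        simp
      map_mul' := fun g h => by
        ext f
        simp }
  have h1 := isCharacter_of_rep ρ
  have h2 : ρ.character = fun g => ∑ t, Q t (g • t) := by
    funext g
    have hf : ∀ x, ((prep G T g) ∘ₗ q) x ∈ W := fun x => hst g _ ⟨x, rfl⟩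
    have h3 : ρ g = ((prep G T g) ∘ₗ q).restrict (fun x _ => hf x) := by
      ext f
      show prep G T g f _ = prep G T g (q f) _
      rw [hWm f f.2]
    show LinearMap.trace ℂ W (ρ g) = _
    rw [h3, LinearMap.trace_restrict_eq_of_forall_mem W _ hf, LinearMap.trace_eq_matrix_trace ℂ (Pi.basisFun ℂ T),
      LinearMap.toMatrix_eq_toMatrix', Matrix.trace]
    refine Fintype.sum_equiv (MulAction.toPerm g⁻¹) _ _ fun t => ?_
    rw [Matrix.diag_apply, LinearMap.toMatrix'_apply]
    show (prep G T g (q _)) t = _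
    rw [prep_apply, hqa]
    show ∑ s, Q (g⁻¹ • t) s * (Pi.single t (1 : ℂ) : T → ℂ) s = Q (g⁻¹ • t) (g • g⁻¹ • t)
    rw [smul_inv_smul, Finset.sum_eq_single t]
    · simp
    · intro s _ hs
      rw [Pi.single_eq_of_ne hs, mul_zero]
    · intro h
      exact absurd (Finset.mem_univ _) h
  rw [← h2]
  exact h1

end idem

section sums

variable {X : Type v} [Fintype X]

theorem sum_three (F : X → X → X → ℂ) : ∑ t : Fin 3 → X, F (t 0) (t 1) (t 2) = ∑ p, ∑ q, ∑ r, F p q r := by
  have h1 : ∑ p, ∑ q, ∑ r, F p q r = ∑ a : X × X × X, F a.1 a.2.1 a.2.2 := by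
    rw [Fintype.sum_prod_type]
    refine Finset.sum_congr rfl fun p _ => ?_
    rw [Fintype.sum_prod_type]
  rw [h1]
  refine Fintype.sum_equiv
    { toFun := fun t => (t 0, t 1, t 2)
      invFun := fun a => ![a.1, a.2.1, a.2.2]
      left_inv := fun t => by
        funext i
        fin_cases i <;> rfl
      right_inv := fun a => rfl } _ _ fun t => rfl

theorem sum_perm (F : Equiv.Perm (Fin 3) → ℂ) :
    ∑ σ, F σ = F 1 + F (Equiv.swap 0 1) + F (Equiv.swap 0 2) + F (Equiv.swap 1 2) + F (finRotate 3) +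
      F (finRotate 3)⁻¹ := by
  have h : (Finset.univ : Finset (Equiv.Perm (Fin 3))) =
      {1, Equiv.swap 0 1, Equiv.swap 0 2, Equiv.swap 1 2, finRotate 3, (finRotate 3)⁻¹} := by decide
  rw [h, Finset.sum_insert (by decide), Finset.sum_insert (by decide), Finset.sum_insert (by decide),
    Finset.sum_insert (by decide), Finset.sum_insert (by decide), Finset.sum_singleton]
  ring

/-- the trace of a symmetric cube -/
theorem sum_sum_perm (M : Matrix X X ℂ) :
    ∑ σ : Equiv.Perm (Fin 3), ∑ t : Fin 3 → X, ∏ i, M (t i) (t (σ i)) =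
      M.trace ^ 3 + 3 * M.trace * (M * M).trace + 2 * (M * M * M).trace := by
  have h2 : ∑ p, ∑ q, M p q * M q p = (M * M).trace := by
    rw [Matrix.trace]
    refine Finset.sum_congr rfl fun p _ => ?_
    rw [Matrix.diag_apply, Matrix.mul_apply]
  have h3 : ∑ p, ∑ q, ∑ r, M p q * M q r * M r p = (M * M * M).trace := by
    rw [Matrix.trace]
    refine Finset.sum_congr rfl fun p _ => ?_
    rw [Matrix.diag_apply, Matrix.mul_apply, Finset.sum_comm]
    refine Finset.sum_congr rfl fun r _ => ?_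
    rw [Matrix.mul_apply, Finset.sum_mul]
  have hM : ∑ p, M p p = M.trace := rfl
  rw [sum_perm]
  simp only [Fin.prod_univ_three]
  have e1 : ∑ t : Fin 3 → X, M (t 0) (t ((1 : Equiv.Perm (Fin 3)) 0)) * M (t 1) (t ((1 : Equiv.Perm (Fin 3)) 1)) *
      M (t 2) (t ((1 : Equiv.Perm (Fin 3)) 2)) = M.trace ^ 3 := by
    refine (sum_three fun p q r => M p p * M q q * M r r).trans ?_
    rw [← hM, pow_succ, pow_two, Finset.sum_mul_sum, Finset.sum_mul]
    refine Finset.sum_congr rfl fun p _ => ?_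
    rw [Finset.sum_mul_sum]
  have e2 : ∑ t : Fin 3 → X, M (t 0) (t ((Equiv.swap 0 1 : Equiv.Perm (Fin 3)) 0)) *
      M (t 1) (t ((Equiv.swap 0 1 : Equiv.Perm (Fin 3)) 1)) *
      M (t 2) (t ((Equiv.swap 0 1 : Equiv.Perm (Fin 3)) 2)) = M.trace * (M * M).trace := by
    refine (sum_three fun p q r => M p q * M q p * M r r).trans ?_
    rw [← hM, ← h2, mul_comm, Finset.sum_mul]
    refine Finset.sum_congr rfl fun p _ => ?_
    rw [Finset.sum_mul_sum]
  have e3 : ∑ t : Fin 3 → X, M (t 0) (t ((Equiv.swap 0 2 : Equiv.Perm (Fin 3)) 0)) *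
      M (t 1) (t ((Equiv.swap 0 2 : Equiv.Perm (Fin 3)) 1)) *
      M (t 2) (t ((Equiv.swap 0 2 : Equiv.Perm (Fin 3)) 2)) = M.trace * (M * M).trace := by
    refine (sum_three fun p q r => M p r * M q q * M r p).trans ?_
    rw [← hM, ← h2, mul_comm, Finset.sum_mul]
    refine Finset.sum_congr rfl fun p _ => ?_
    rw [Finset.sum_comm, Finset.sum_mul_sum]
    refine Finset.sum_congr rfl fun r _ => Finset.sum_congr rfl fun q _ => ?_
    ring
  have e4 : ∑ t : Fin 3 → X, M (t 0) (t ((Equiv.swap 1 2 : Equiv.Perm (Fin 3)) 0)) *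
      M (t 1) (t ((Equiv.swap 1 2 : Equiv.Perm (Fin 3)) 1)) *
      M (t 2) (t ((Equiv.swap 1 2 : Equiv.Perm (Fin 3)) 2)) = M.trace * (M * M).trace := by
    refine (sum_three fun p q r => M p p * M q r * M r q).trans ?_
    rw [← hM, ← h2, Finset.sum_mul]
    refine Finset.sum_congr rfl fun p _ => ?_
    rw [Finset.mul_sum]
    refine Finset.sum_congr rfl fun q _ => ?_
    rw [Finset.mul_sum]
    refine Finset.sum_congr rfl fun r _ => ?_
    ring
  have e5 : ∑ t : Fin 3 → X, M (t 0) (t ((finRotate 3 : Equiv.Perm (Fin 3)) 0)) *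
      M (t 1) (t ((finRotate 3 : Equiv.Perm (Fin 3)) 1)) *
      M (t 2) (t ((finRotate 3 : Equiv.Perm (Fin 3)) 2)) = (M * M * M).trace := by
    refine (sum_three fun p q r => M p q * M q r * M r p).trans h3
  have e6 : ∑ t : Fin 3 → X, M (t 0) (t ((finRotate 3 : Equiv.Perm (Fin 3))⁻¹ 0)) *
      M (t 1) (t ((finRotate 3 : Equiv.Perm (Fin 3))⁻¹ 1)) *
      M (t 2) (t ((finRotate 3 : Equiv.Perm (Fin 3))⁻¹ 2)) = (M * M * M).trace := by
    refine (sum_three fun p q r => M p r * M q p * M r q).trans ?_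
    rw [← h3]
    refine Finset.sum_congr rfl fun p _ => ?_
    rw [Finset.sum_comm]
    refine Finset.sum_congr rfl fun r _ => Finset.sum_congr rfl fun q _ => ?_
    ring
  rw [e1, e2, e3, e4, e5, e6]
  ring

end sums

section cube

variable {X : Type v} [Fintype X] (E : Matrix X X ℂ)

/-- the projection onto the symmetric cube -/
noncomputable def Pi3 : Matrix (Fin 3 → X) (Fin 3 → X) ℂ :=
  fun t t' => 1 / 6 * ∑ σ : Equiv.Perm (Fin 3), ∏ i, E (t i) (t' (σ i))

/-- the cubes -/
def Hm : Matrix (Fin 3 → X) X ℂ := fun t x => ∏ i, E (t i) x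

/-- `e_x ⊗ ω` -/
def u0 (t : Fin 3 → X) (x : X) : ℂ := E (t 0) x * E (t 1) (t 2)

/-- `e_x ω` -/
noncomputable def Um : Matrix (Fin 3 → X) X ℂ := fun t x => 1 / 6 * ∑ σ : Equiv.Perm (Fin 3), u0 E (t ∘ σ) x

variable {E}

theorem sum_comp (σ : Equiv.Perm (Fin 3)) (F : (Fin 3 → X) → ℂ) : ∑ t : Fin 3 → X, F (t ∘ σ) = ∑ t, F t :=
  Fintype.sum_equiv (Equiv.arrowCongr σ.symm (Equiv.refl X)) _ _ fun t => rfl

theorem sum_prod (A : Fin 3 → X → ℂ) : ∑ t : Fin 3 → X, ∏ i, A i (t i) = ∏ i, ∑ x, A i x := by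
  classical
  rw [Finset.prod_univ_sum, Fintype.piFinset_univ]

theorem prod_comp (σ : Equiv.Perm (Fin 3)) (f : Fin 3 → ℂ) : ∏ i, f (σ i) = ∏ i, f i :=
  Equiv.prod_comp σ f

/-- a symmetric tensor of the range is fixed by the projection -/
theorem pi3_fix {v : (Fin 3 → X) → ℂ} (h1 : ∀ (σ : Equiv.Perm (Fin 3)) t, v (t ∘ σ) = v t)
    (h2 : ∀ t, ∑ t' : Fin 3 → X, (∏ i, E (t i) (t' i)) * v t' = v t) (t : Fin 3 → X) :
    ∑ t', Pi3 E t t' * v t' = v t := by
  have e : ∀ t', Pi3 E t t' * v t' = 1 / 6 * ∑ σ : Equiv.Perm (Fin 3), (∏ i, E (t i) ((t' ∘ σ) i)) * v (t' ∘ σ) := by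
    intro t'
    rw [Pi3, mul_assoc, Finset.sum_mul]
    refine congrArg _ (Finset.sum_congr rfl fun σ _ => ?_)
    rw [h1]
    rfl
  simp only [e]
  rw [← Finset.mul_sum, Finset.sum_comm]
  have e2 : ∀ σ : Equiv.Perm (Fin 3), ∑ t' : Fin 3 → X, (∏ i, E (t i) ((t' ∘ σ) i)) * v (t' ∘ σ) = v t := fun σ =>
    (sum_comp σ fun t' => (∏ i, E (t i) (t' i)) * v t').trans (h2 t)
  simp only [e2, Finset.sum_const, Finset.card_univ, Fintype.card_perm, Fintype.card_fin]
  norm_num [Nat.factorial]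
  ring

section facts

variable (hE : E * E = E) (hs : ∀ x y, E x y = E y x)

include hE in
theorem con (x y : X) : ∑ z, E x z * E z y = E x y := by
  rw [← Matrix.mul_apply, hE]

include hE hs in
theorem con' (x y : X) : ∑ z, E z x * E z y = E x y := by
  rw [← con hE x y]
  refine Finset.sum_congr rfl fun z _ => ?_
  rw [hs z x]

include hE in
theorem hm_fix (t : Fin 3 → X) (x : X) : ∑ t', Pi3 E t t' * Hm E t' x = Hm E t x := by
  refine pi3_fix (v := fun t' => Hm E t' x) (fun σ t => ?_) (fun t => ?_) t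
  · exact prod_comp σ fun i => E (t i) x
  · have e : ∀ t' : Fin 3 → X, (∏ i, E (t i) (t' i)) * Hm E t' x = ∏ i, (E (t i) (t' i) * E (t' i) x) := fun t' => by
      rw [Hm, Finset.prod_mul_distrib]
    simp only [e]
    rw [sum_prod fun i y => E (t i) y * E y x]
    simp only [con hE]
    rfl

theorem um_symm (σ : Equiv.Perm (Fin 3)) (t : Fin 3 → X) (x : X) : Um E (t ∘ σ) x = Um E t x := by
  rw [Um, Um]
  refine congrArg _ ?_
  exact Fintype.sum_equiv (Equiv.mulLeft σ) _ _ fun τ => rfl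

include hE hs in
theorem u0_fix (t : Fin 3 → X) (x : X) : ∑ t' : Fin 3 → X, (∏ i, E (t i) (t' i)) * u0 E t' x = u0 E t x := by
  simp only [Fin.prod_univ_three, u0]
  refine (sum_three fun p q r => E (t 0) p * E (t 1) q * E (t 2) r * (E p x * E q r)).trans ?_
  have i1 : ∀ p q, ∑ r, E (t 0) p * E (t 1) q * E (t 2) r * (E p x * E q r) =
      (E (t 0) p * E p x) * (E (t 1) q * E q (t 2)) := by
    intro p q
    rw [← con hE q (t 2), Finset.mul_sum, Finset.mul_sum]
    refine Finset.sum_congr rfl fun r _ => ?_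
    rw [hs (t 2) r]
    ring
  simp only [i1]
  rw [← con hE (t 0) x, ← con hE (t 1) (t 2), Finset.sum_mul_sum]

include hE in
theorem path4 (x y : X) : ∑ p, ∑ q, ∑ r, E x p * E p q * E q r * E r y = E x y := by
  have i1 : ∀ p q, ∑ r, E x p * E p q * E q r * E r y = E x p * E p q * E q y := by
    intro p q
    rw [← con hE q y, Finset.mul_sum]
    refine Finset.sum_congr rfl fun r _ => ?_
    ring
  have i2 : ∀ p, ∑ q, E x p * E p q * E q y = E x p * E p y := by
    intro p
    rw [← con hE p y, Finset.mul_sum]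
    refine Finset.sum_congr rfl fun r _ => ?_
    ring
  simp only [i1, i2]
  exact con hE x y

theorem um_fix (h0 : ∀ (t : Fin 3 → X) (x : X), ∑ t' : Fin 3 → X, (∏ i, E (t i) (t' i)) * u0 E t' x = u0 E t x)
    (t : Fin 3 → X) (x : X) : ∑ t', Pi3 E t t' * Um E t' x = Um E t x := by
  refine pi3_fix (v := fun t' => Um E t' x) (fun σ t => um_symm σ t x) (fun t => ?_) t
  have e : ∀ t' : Fin 3 → X, (∏ i, E (t i) (t' i)) * Um E t' x =
      1 / 6 * ∑ σ : Equiv.Perm (Fin 3), (∏ i, E ((t ∘ σ) i) ((t' ∘ σ) i)) * u0 E (t' ∘ σ) x := fun t' => by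
    rw [Um, mul_left_comm, Finset.mul_sum]
    refine congrArg _ (Finset.sum_congr rfl fun σ _ => ?_)
    rw [← prod_comp σ fun i => E (t i) (t' i)]
    rfl
  simp only [e]
  rw [← Finset.mul_sum, Finset.sum_comm, Um]
  refine congrArg _ (Finset.sum_congr rfl fun σ _ => ?_)
  rw [sum_comp σ fun t' => (∏ i, E ((t ∘ σ) i) (t' i)) * u0 E t' x, h0]

/-- sums against a symmetric function -/
theorem sum_um {v : (Fin 3 → X) → ℂ} (h1 : ∀ (σ : Equiv.Perm (Fin 3)) t, v (t ∘ σ) = v t) (y : X) :
    ∑ t, v t * Um E t y = ∑ t, v t * u0 E t y := by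
  have e : ∀ t, v t * Um E t y = 1 / 6 * ∑ σ : Equiv.Perm (Fin 3), v (t ∘ σ) * u0 E (t ∘ σ) y := fun t => by
    rw [Um, mul_left_comm, Finset.mul_sum]
    refine congrArg _ (Finset.sum_congr rfl fun σ _ => ?_)
    rw [h1]
  simp only [e]
  rw [← Finset.mul_sum, Finset.sum_comm]
  simp only [sum_comp _ fun t => v t * u0 E t y]
  rw [Finset.sum_const, Finset.card_univ, Fintype.card_perm, Fintype.card_fin]
  norm_num [Nat.factorial]
  ring

include hE hs in
theorem hm_hm (x y : X) : ∑ t, Hm E t x * Hm E t y = E x y ^ 3 := by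
  have e : ∀ t : Fin 3 → X, Hm E t x * Hm E t y = ∏ i, (E (t i) x * E (t i) y) := fun t => by
    rw [Hm, Hm, Finset.prod_mul_distrib]
  simp only [e]
  rw [sum_prod fun _ z => E z x * E z y]
  simp only [con' hE hs, Finset.prod_const, Finset.card_univ, Fintype.card_fin]

include hE hs in
theorem hm_um (x y : X) : ∑ t, Hm E t x * Um E t y = E x x * E x y := by
  rw [sum_um (v := fun t => Hm E t x) (fun σ t => prod_comp σ fun i => E (t i) x)]
  simp only [Hm, u0, Fin.prod_univ_three]
  refine (sum_three fun p q r => E p x * E q x * E r x * (E p y * E q r)).trans ?_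
  have i1 : ∀ p q, ∑ r, E p x * E q x * E r x * (E p y * E q r) = (E p x * E p y) * (E q x * E q x) := by
    intro p q
    have h1 := con hE q x
    calc ∑ r, E p x * E q x * E r x * (E p y * E q r) = ∑ r, E p x * E p y * E q x * (E q r * E r x) :=
          Finset.sum_congr rfl fun r _ => by ring
      _ = _ := by rw [← Finset.mul_sum, h1]; ring
  simp only [i1]
  rw [← Finset.sum_mul_sum, con' hE hs, con' hE hs, mul_comm]

include hE hs in
theorem um_um {n : ℂ} (hn : ∑ x, E x x = n) (x y : X) : ∑ t, Um E t x * Um E t y = (n + 2) / 3 * E x y := by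
  rw [sum_um (v := fun t => Um E t x) (fun σ t => um_symm σ t x)]
  simp only [mul_comm (Um E _ x)]
  have e : ∀ t : Fin 3 → X, u0 E t y * Um E t x = 1 / 6 * ∑ σ : Equiv.Perm (Fin 3), u0 E t y * u0 E (t ∘ σ) x :=
    fun t => by rw [Um, mul_left_comm, Finset.mul_sum]
  simp only [e]
  rw [← Finset.mul_sum, Finset.sum_comm, sum_perm]
  have hyx : E y x = E x y := hs y x
  have hnn : ∑ q, ∑ r, E q r * E q r = n := by
    rw [← hn]
    refine Finset.sum_congr rfl fun q _ => ?_
    rw [← con hE q q]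
    refine Finset.sum_congr rfl fun r _ => ?_
    rw [hs r q]
  have hp := path4 hE y x
  have f1 : ∑ t : Fin 3 → X, u0 E t y * u0 E (t ∘ (1 : Equiv.Perm (Fin 3))) x = n * E x y := by
    refine (sum_three fun p q r => E p y * E q r * (E p x * E q r)).trans ?_
    calc ∑ p, ∑ q, ∑ r, E p y * E q r * (E p x * E q r) = ∑ p, E p y * E p x * ∑ q, ∑ r, E q r * E q r := by
          refine Finset.sum_congr rfl fun p _ => ?_
          rw [Finset.mul_sum]
          refine Finset.sum_congr rfl fun q _ => ?_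
          rw [Finset.mul_sum]
          refine Finset.sum_congr rfl fun r _ => ?_
          ring
      _ = _ := by rw [hnn, ← Finset.sum_mul, con' hE hs, hyx, mul_comm]
  have f2 : ∑ t : Fin 3 → X, u0 E t y * u0 E (t ∘ (Equiv.swap 0 1 : Equiv.Perm (Fin 3))) x = E x y := by
    refine (sum_three fun p q r => E p y * E q r * (E q x * E p r)).trans ?_
    rw [← hyx, ← hp]
    refine Finset.sum_congr rfl fun p _ => ?_
    rw [Finset.sum_comm]
    refine Finset.sum_congr rfl fun r _ => Finset.sum_congr rfl fun q _ => ?_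
    rw [hs y p, hs q r]
    ring
  have f3 : ∑ t : Fin 3 → X, u0 E t y * u0 E (t ∘ (Equiv.swap 0 2 : Equiv.Perm (Fin 3))) x = E x y := by
    refine (sum_three fun p q r => E p y * E q r * (E r x * E q p)).trans ?_
    rw [← hyx, ← hp]
    refine Finset.sum_congr rfl fun p _ => Finset.sum_congr rfl fun q _ => Finset.sum_congr rfl fun r _ => ?_
    rw [hs y p, hs q p]
    ring
  have f4 : ∑ t : Fin 3 → X, u0 E t y * u0 E (t ∘ (Equiv.swap 1 2 : Equiv.Perm (Fin 3))) x = n * E x y := by
    refine (sum_three fun p q r => E p y * E q r * (E p x * E r q)).trans ?_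
    rw [← f1]
    refine ((sum_three fun p q r => E p y * E q r * (E p x * E q r)).trans ?_).symm
    refine Finset.sum_congr rfl fun p _ => Finset.sum_congr rfl fun q _ => Finset.sum_congr rfl fun r _ => ?_
    rw [hs r q]
  have f5 : ∑ t : Fin 3 → X, u0 E t y * u0 E (t ∘ (finRotate 3 : Equiv.Perm (Fin 3))) x = E x y := by
    refine (sum_three fun p q r => E p y * E q r * (E q x * E r p)).trans ?_
    rw [← hyx, ← hp]
    refine Finset.sum_congr rfl fun p _ => ?_
    rw [Finset.sum_comm]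
    refine Finset.sum_congr rfl fun r _ => Finset.sum_congr rfl fun q _ => ?_
    rw [hs y p, hs q r, hs r p]
    ring
  have f6 : ∑ t : Fin 3 → X, u0 E t y * u0 E (t ∘ ((finRotate 3)⁻¹ : Equiv.Perm (Fin 3))) x = E x y := by
    refine (sum_three fun p q r => E p y * E q r * (E r x * E p q)).trans ?_
    rw [← hyx, ← hp]
    refine Finset.sum_congr rfl fun p _ => Finset.sum_congr rfl fun q _ => Finset.sum_congr rfl fun r _ => ?_
    rw [hs y p]
    ring
  rw [f1, f2, f3, f4, f5, f6]
  ring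

include hE in
theorem um_mul (t : Fin 3 → X) (y : X) : ∑ x, Um E t x * E x y = Um E t y := by
  simp only [Um, u0]
  have e : ∀ x, 1 / 6 * (∑ σ : Equiv.Perm (Fin 3), E ((t ∘ σ) 0) x * E ((t ∘ σ) 1) ((t ∘ σ) 2)) * E x y =
      1 / 6 * ∑ σ : Equiv.Perm (Fin 3), E ((t ∘ σ) 0) x * E x y * E ((t ∘ σ) 1) ((t ∘ σ) 2) := fun x => by
    rw [mul_assoc, Finset.sum_mul]
    refine congrArg _ (Finset.sum_congr rfl fun σ _ => ?_)
    ring
  simp only [e]
  rw [← Finset.mul_sum, Finset.sum_comm]
  refine congrArg _ (Finset.sum_congr rfl fun σ _ => ?_)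
  rw [← Finset.sum_mul, con hE]

include hs in
theorem pi3_symm (t t' : Fin 3 → X) : Pi3 E t' t = Pi3 E t t' := by
  rw [Pi3, Pi3]
  refine congrArg _ ?_
  refine Fintype.sum_equiv (Equiv.inv (Equiv.Perm (Fin 3))) _ _ fun σ => ?_
  show ∏ i, E (t' i) (t (σ i)) = ∏ i, E (t i) (t' (σ⁻¹ i))
  rw [← prod_comp σ fun i => E (t i) (t' (σ⁻¹ i))]
  refine Finset.prod_congr rfl fun i _ => ?_
  rw [show σ⁻¹ (σ i) = i from σ.symm_apply_apply i, hs]

theorem pi3_comp (τ : Equiv.Perm (Fin 3)) (t u : Fin 3 → X) : Pi3 E (t ∘ τ) u = Pi3 E t u := by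
  rw [Pi3, Pi3]
  refine congrArg _ ?_
  refine Fintype.sum_equiv (Equiv.mulRight τ⁻¹) _ _ fun σ => ?_
  show ∏ i, E (t (τ i)) (u (σ i)) = ∏ i, E (t i) (u (σ (τ⁻¹ i)))
  rw [← prod_comp τ fun i => E (t i) (u (σ (τ⁻¹ i)))]
  refine Finset.prod_congr rfl fun i _ => ?_
  rw [show τ⁻¹ (τ i) = i from τ.symm_apply_apply i]

include hE in
theorem pi3_pi3 (t u : Fin 3 → X) : ∑ t', Pi3 E t t' * Pi3 E t' u = Pi3 E t u := by
  refine pi3_fix (v := fun t' => Pi3 E t' u) (fun σ t => pi3_comp σ t u) (fun t => ?_) t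
  have e : ∀ t' : Fin 3 → X, (∏ i, E (t i) (t' i)) * Pi3 E t' u =
      1 / 6 * ∑ σ : Equiv.Perm (Fin 3), ∏ i, (E (t i) (t' i) * E (t' i) (u (σ i))) := fun t' => by
    rw [Pi3, mul_left_comm, Finset.mul_sum]
    refine congrArg _ (Finset.sum_congr rfl fun σ _ => ?_)
    rw [Finset.prod_mul_distrib]
  simp only [e]
  rw [← Finset.mul_sum, Finset.sum_comm, Pi3]
  refine congrArg _ (Finset.sum_congr rfl fun σ _ => ?_)
  rw [sum_prod fun i y => E (t i) y * E y (u (σ i))]
  simp only [con hE]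

end facts

end cube

section algebra

variable {X : Type v} [Fintype X] [DecidableEq X] {E C O : Matrix X X ℂ}

/-- the idempotent -/
noncomputable def Hm' (E : Matrix X X ℂ) (ε n : ℂ) : Matrix (Fin 3 → X) X ℂ := Hm E - (3 * ε / (n + 2)) • Um E

noncomputable def Q3 (E C : Matrix X X ℂ) (ε n : ℂ) : Matrix (Fin 3 → X) (Fin 3 → X) ℂ :=
  Pi3 E - Hm' E ε n * C * (Hm' E ε n).transpose - (3 / (n + 2)) • (Um E * (Um E).transpose)

theorem grams (hE : E * E = E) (hs : ∀ x y, E x y = E y x) {ε n : ℂ} (hε : ∀ x, E x x = ε) (hn : ∑ x, E x x = n)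
    (hn2 : n + 2 ≠ 0) :
    (Hm' E ε n).transpose * Hm' E ε n = Matrix.of (fun x y => E x y ^ 3 - 3 * ε ^ 2 / (n + 2) * E x y) ∧
      (Hm' E ε n).transpose * Um E = 0 ∧ (Um E).transpose * Hm' E ε n = 0 ∧
      (Um E).transpose * Um E = ((n + 2) / 3) • E := by
  have h1 : (Hm E).transpose * Hm E = Matrix.of fun x y => E x y ^ 3 := by
    ext x y
    exact hm_hm hE hs x y
  have h2 : (Hm E).transpose * Um E = ε • E := by
    ext x y
    rw [Matrix.smul_apply, smul_eq_mul, ← hε x]
    exact hm_um hE hs x y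
  have h3 : (Um E).transpose * Um E = ((n + 2) / 3) • E := by
    ext x y
    exact um_um hE hs hn x y
  have h2' : (Um E).transpose * Hm E = ε • E := by
    have h4 := congrArg Matrix.transpose h2
    rw [Matrix.transpose_mul, Matrix.transpose_transpose, Matrix.transpose_smul] at h4
    rw [h4]
    congr 1
    ext x y
    exact hs y x
  refine ⟨?_, ?_, ?_, h3⟩
  · rw [Hm', Matrix.transpose_sub, Matrix.transpose_smul, Matrix.sub_mul, Matrix.mul_sub, Matrix.mul_sub,
      Matrix.smul_mul, Matrix.smul_mul, Matrix.mul_smul, Matrix.mul_smul, h1, h2, h2', h3]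
    ext x y
    simp only [Matrix.sub_apply, Matrix.smul_apply, smul_eq_mul, Matrix.of_apply]
    field_simp
    ring
  · rw [Hm', Matrix.transpose_sub, Matrix.transpose_smul, Matrix.sub_mul, Matrix.smul_mul, h2, h3]
    ext x y
    simp only [Matrix.sub_apply, Matrix.smul_apply, smul_eq_mul, Matrix.zero_apply]
    field_simp
    ring
  · rw [Hm', Matrix.mul_sub, Matrix.mul_smul, h2', h3]
    ext x y
    simp only [Matrix.sub_apply, Matrix.smul_apply, smul_eq_mul, Matrix.zero_apply]
    field_simp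
    ring

theorem q3_idem (hE : E * E = E) (hs : ∀ x y, E x y = E y x) {ε n : ℂ} (hε : ∀ x, E x x = ε) (hn : ∑ x, E x x = n)
    (hn2 : n + 2 ≠ 0) (hCK : C * (Matrix.of fun x y => E x y ^ 3 - 3 * ε ^ 2 / (n + 2) * E x y) = O)
    (hOC : O * C = C) : Q3 E C ε n * Q3 E C ε n = Q3 E C ε n := by
  obtain ⟨hK, hHU, hUH, hUU⟩ := grams hE hs hε hn hn2
  set H := Hm' E ε n with hH
  set U := Um E with hU
  set P := Pi3 E with hP
  have hPP : P * P = P := by
    ext t u
    exact pi3_pi3 hE t u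
  have hPU : P * U = U := by
    ext t x
    exact um_fix (u0_fix hE hs) t x
  have hPH : P * H = H := by
    rw [hH, Hm', Matrix.mul_sub, Matrix.mul_smul, hPU]
    congr 1
    ext t x
    exact hm_fix hE t x
  have hPt : P.transpose = P := by
    ext t u
    exact pi3_symm hs t u
  have hUP : U.transpose * P = U.transpose := by
    have := congrArg Matrix.transpose hPU
    rwa [Matrix.transpose_mul, hPt] at this
  have hHP : H.transpose * P = H.transpose := by
    have := congrArg Matrix.transpose hPH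
    rwa [Matrix.transpose_mul, hPt] at this
  have hUE : U * E = U := by
    ext t x
    exact um_mul hE t x
  set E1 := H * C * H.transpose with hE1
  set E2 := (3 / (n + 2)) • (U * U.transpose) with hE2
  have a1 : P * E1 = E1 := by rw [hE1, ← Matrix.mul_assoc, ← Matrix.mul_assoc, hPH]
  have a2 : E1 * P = E1 := by rw [hE1, Matrix.mul_assoc, hHP]
  have a3 : P * E2 = E2 := by rw [hE2, Matrix.mul_smul, ← Matrix.mul_assoc, hPU]
  have a4 : E2 * P = E2 := by rw [hE2, Matrix.smul_mul, Matrix.mul_assoc, hUP]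
  have a5 : E1 * E1 = E1 := by
    calc E1 * E1 = H * (C * (H.transpose * H) * C) * H.transpose := by
          rw [hE1]; simp only [Matrix.mul_assoc]
      _ = E1 := by rw [hK, hCK, hOC]
  have a6 : E2 * E2 = E2 := by
    rw [hE2, Matrix.smul_mul, Matrix.mul_smul]
    have h1 : U * U.transpose * (U * U.transpose) = ((n + 2) / 3) • (U * U.transpose) := by
      calc U * U.transpose * (U * U.transpose) = U * (U.transpose * U) * U.transpose := by
            simp only [Matrix.mul_assoc]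
        _ = _ := by rw [hUU, Matrix.mul_smul, hUE, Matrix.smul_mul]
    rw [h1, smul_smul, smul_smul]
    congr 1
    field_simp
  have a7 : E1 * E2 = 0 := by
    calc E1 * E2 = (3 / (n + 2)) • (H * C * (H.transpose * U) * U.transpose) := by
          rw [hE1, hE2, Matrix.mul_smul]; simp only [Matrix.mul_assoc]
      _ = 0 := by rw [hHU]; simp
  have a8 : E2 * E1 = 0 := by
    calc E2 * E1 = (3 / (n + 2)) • (U * (U.transpose * H) * C * H.transpose) := by
          rw [hE1, hE2, Matrix.smul_mul]; simp only [Matrix.mul_assoc]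
      _ = 0 := by rw [hUH]; simp
  show (P - E1 - E2) * (P - E1 - E2) = P - E1 - E2
  simp only [Matrix.sub_mul, Matrix.mul_sub, hPP, a1, a2, a3, a4, a5, a6, a7, a8]
  abel

end algebra

section main

variable {G : Type u} [Group G] {X : Type v} [Fintype X] [DecidableEq X] [MulAction G X] {E C O : Matrix X X ℂ}

theorem pi3_inv (hEg : ∀ (g : G) (x y : X), E (g • x) (g • y) = E x y) (g : G) (t u : Fin 3 → X) :
    Pi3 E (g • t) (g • u) = Pi3 E t u := by
  simp only [Pi3, Pi.smul_apply, hEg]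

theorem um_inv (hEg : ∀ (g : G) (x y : X), E (g • x) (g • y) = E x y) (g : G) (t : Fin 3 → X) (x : X) :
    Um E (g • t) (g • x) = Um E t x := by
  simp only [Um, u0, Function.comp_apply, Pi.smul_apply, hEg]

theorem hm_inv (hEg : ∀ (g : G) (x y : X), E (g • x) (g • y) = E x y) (ε n : ℂ) (g : G) (t : Fin 3 → X) (x : X) :
    Hm' E ε n (g • t) (g • x) = Hm' E ε n t x := by
  simp only [Hm', Matrix.sub_apply, Matrix.smul_apply, um_inv hEg, Hm, Pi.smul_apply, hEg]

/-- conjugates of invariant matrices -/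
theorem inv_mul {A B : Type*} [Fintype A] [MulAction G A] [MulAction G B] {D : Type*} [MulAction G D]
    {S : Matrix D A ℂ} {R : Matrix A B ℂ} (hS : ∀ (g : G) x y, S (g • x) (g • y) = S x y)
    (hR : ∀ (g : G) x y, R (g • x) (g • y) = R x y) (g : G) (x : D) (y : B) : (S * R) (g • x) (g • y) = (S * R) x y := by
  rw [Matrix.mul_apply, Matrix.mul_apply]
  refine (Fintype.sum_equiv (MulAction.toPerm g) _ _ fun z => ?_).symm
  show S x z * R z y = S (g • x) (g • z) * R (g • z) (g • y)
  rw [hS, hR]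

theorem tr_mul {A B : Type*} [Fintype A] [Fintype B] [MulAction G A] [MulAction G B] {S : Matrix A B ℂ}
    {R : Matrix B A ℂ} (hS : ∀ (g : G) x y, S (g • x) (g • y) = S x y) (g : G) :
    ∑ t, (S * R) t (g • t) = ∑ x, (R * S) x (g • x) := by
  simp only [Matrix.mul_apply]
  rw [Finset.sum_comm]
  refine Finset.sum_congr rfl fun x _ => ?_
  refine Fintype.sum_equiv (MulAction.toPerm g) _ _ fun t => ?_
  show S t x * R x (g • t) = R x (g • t) * S (g • t) (g • x)
  rw [hS, mul_comm]

theorem transpose_inv {A B : Type*} [MulAction G A] [MulAction G B] {S : Matrix A B ℂ}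
    (hS : ∀ (g : G) x y, S (g • x) (g • y) = S x y) (g : G) (x : B) (y : A) :
    S.transpose (g • x) (g • y) = S.transpose x y := hS g y x

/-- **The symmetric cube.** -/
theorem sym3 {G : Type u} [Group G] [Finite G] {X : Type v} [Fintype X] [DecidableEq X] [MulAction G X]
    (E C O : Matrix X X ℂ) (hE : E * E = E) (hEt : E.transpose = E)
    (hEg : ∀ (g : G) (x y : X), E (g • x) (g • y) = E x y)
    (hCg : ∀ (g : G) (x y : X), C (g • x) (g • y) = C x y) (ε n : ℂ) (hε : ∀ x, E x x = ε) (hn : ∑ x, E x x = n)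
    (hn2 : n + 2 ≠ 0) (hCK : C * (Matrix.of fun x y => E x y ^ 3 - 3 * ε ^ 2 / (n + 2) * E x y) = O)
    (hOC : O * C = C) :
    IsCharacter G (fun g => ((∑ x, E (g • x) x) ^ 3 + 3 * (∑ x, E (g • x) x) * (∑ x, E ((g * g) • x) x) +
      2 * ∑ x, E ((g * g * g) • x) x) / 6 - (∑ x, E (g • x) x) - ∑ x, O x (g • x)) := by
  have hs : ∀ x y, E x y = E y x := fun x y => congrFun (congrFun hEt y) x
  have hHg := hm_inv (E := E) hEg ε n
  have hUg := um_inv (E := E) hEg
  have hinv : ∀ (g : G) (t u : Fin 3 → X), Q3 E C ε n (g • t) (g • u) = Q3 E C ε n t u := by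
    intro g t u
    simp only [Q3, Matrix.sub_apply, Matrix.smul_apply]
    rw [pi3_inv hEg, inv_mul (inv_mul hHg hCg) (transpose_inv hHg), inv_mul hUg (transpose_inv hUg)]
  have h1 := isCharacter_idem (G := G) (Q3 E C ε n) (q3_idem hE hs hε hn hn2 hCK hOC) hinv
  have h2 : (fun g : G => ((∑ x, E (g • x) x) ^ 3 + 3 * (∑ x, E (g • x) x) * (∑ x, E ((g * g) • x) x) +
      2 * ∑ x, E ((g * g * g) • x) x) / 6 - (∑ x, E (g • x) x) - ∑ x, O x (g • x)) =
      fun g => ∑ t, Q3 E C ε n t (g • t) := by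
    funext g
    obtain ⟨hK, -, -, hUU⟩ := grams hE hs hε hn hn2
    set M : G → Matrix X X ℂ := fun g => fun x y => E x (g • y) with hM
    have hMM : ∀ g h, M g * M h = M (g * h) := by
      intro g h
      ext x z
      rw [Matrix.mul_apply]
      show ∑ y, E x (g • y) * E y (h • z) = E x ((g * h) • z)
      rw [← con hE x ((g * h) • z)]
      refine Fintype.sum_equiv (MulAction.toPerm g) _ _ fun y => ?_
      show E x (g • y) * E y (h • z) = E x (g • y) * E (g • y) ((g * h) • z)
      rw [mul_smul, hEg]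
    have htr : ∀ g, (M g).trace = ∑ x, E (g • x) x := fun g => Finset.sum_congr rfl fun x _ => hs x (g • x)
    have t1 : ∑ t : Fin 3 → X, Pi3 E t (g • t) = ((∑ x, E (g • x) x) ^ 3 +
        3 * (∑ x, E (g • x) x) * (∑ x, E ((g * g) • x) x) + 2 * ∑ x, E ((g * g * g) • x) x) / 6 := by
      simp only [Pi3]
      rw [← Finset.mul_sum, Finset.sum_comm]
      have h3 := sum_sum_perm (M g)
      rw [hMM, hMM, htr, htr, htr] at h3
      rw [← h3]
      exact one_div_mul_eq_div _ _
    have t2 : ∑ t : Fin 3 → X, (Hm' E ε n * C * (Hm' E ε n).transpose) t (g • t) = ∑ x, O x (g • x) := by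
      rw [Matrix.mul_assoc, tr_mul hHg, Matrix.mul_assoc, hK, hCK]
    have t3 : ∑ t : Fin 3 → X, ((3 / (n + 2)) • (Um E * (Um E).transpose)) t (g • t) = ∑ x, E (g • x) x := by
      simp only [Matrix.smul_apply, smul_eq_mul]
      rw [← Finset.mul_sum, tr_mul hUg, hUU, Finset.mul_sum]
      refine Finset.sum_congr rfl fun x _ => ?_
      rw [Matrix.smul_apply, smul_eq_mul, hs x]
      field_simp
    simp only [Q3, Matrix.sub_apply]
    rw [Finset.sum_sub_distrib, Finset.sum_sub_distrib, t1, t2, t3]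
    ring
  rw [h2]
  exact h1

end main

end Cfsg.Agent.H42.BT
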